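import Groth.Agent.L09.LciMor.Basic
import Groth.Agent.L23.FpqcBase
import Groth.Agent.L07.KoszulMor
import Groth.Agent.L24.LocQ.Descent

/-!
Local complete intersection morphisms are fpqc local on the base.
-/

set_option autoImplicit false
set_option backward.isDefEq.respectTransparency false
set_option backward.isDefEq.respectTransparency.types false

universe u

open CategoryTheory CategoryTheory.Limits AlgebraicGeometry Opposite AlgSp

namespace Groth.L09.LciMor

theorem lci_of_isPullback_flat {X Y X' Y' : Scheme.{u}} {f : X ⟶ Y} {g : Y' ⟶ Y} [Flat g]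
    {f' : X' ⟶ Y'} {g' : X' ⟶ X} (sq : IsPullback g' f' f g) (h : AlgSp.lci f) : AlgSp.lci f' :=
  fun x => Groth.L07.KoszulChart.isKoszulAt_baseChange f g f' g' sq x (h _)

theorem lci_cancel_left_iso {X Y Z : Scheme.{u}} (e : X ⟶ Y) [IsIso e] (f : Y ⟶ Z) :
    AlgSp.lci (e ≫ f) ↔ AlgSp.lci f := by
  have := respectsIso_lci.{u}
  exact MorphismProperty.cancel_left_of_respectsIso _ _ _

/-- Koszul at the points over an open piece of the target. -/
theorem isKoszulAt_of_target_piece {X Y V : Scheme.{u}} (f : X ⟶ Y) (o : V ⟶ Y) [IsOpenImmersion o]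
    (h : AlgSp.lci (pullback.snd f o)) (x : X) (hx : f x ∈ Set.range o) : Synt.IsKoszulAt f x := by
  obtain ⟨v, hv⟩ := hx
  obtain ⟨z, hz, -⟩ := Scheme.Pullback.exists_preimage_pullback (f := f) (g := o) x v hv.symm
  subst hz
  refine isKoszulAt_of_openImmersion (pullback.fst f o) f z ?_
  rw [pullback.condition]
  exact lci_comp h (lci_of_smooth o) z

theorem lci_of_fpqc_family {X Z : Scheme.{u}} (f : X ⟶ Z) [IsAffine Z] {J : Type u} [Finite J] (A : J → Scheme.{u})
    (e : ∀ j, A j ⟶ Z) (hA : ∀ j, CompactSpace (A j)) (he : ∀ j, Flat (e j))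
    (hs : ∀ z : Z, ∃ j, z ∈ Set.range (e j)) (h : ∀ j, AlgSp.lci (pullback.snd f (e j))) : AlgSp.lci f := by
  let π : ∐ A ⟶ Z := Sigma.desc e
  have := hA
  have hι : ∀ j, (sigmaOpenCover A).f j ≫ π = e j := fun j => Sigma.ι_desc _ _
  have : Finite (sigmaOpenCover A).I₀ := inferInstanceAs (Finite J)
  have : ∀ j, CompactSpace ((sigmaOpenCover A).X j) := hA
  have : CompactSpace ↥(∐ A) := Scheme.OpenCover.compactSpace (sigmaOpenCover A)
  have : QuasiCompact (π ≫ terminal.from Z) := by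
    rw [show π ≫ terminal.from Z = terminal.from _ from Subsingleton.elim _ _]
    exact (compactSpace_iff_quasiCompact _).mp ‹_›
  have : QuasiCompact π := QuasiCompact.of_comp π (terminal.from Z)
  have : Surjective π := ⟨fun z => by
    obtain ⟨j, a, rfl⟩ := hs z
    exact ⟨(sigmaOpenCover A).f j a, by rw [← Scheme.Hom.comp_apply, hι]; rfl⟩⟩
  have : Flat π := IsZariskiLocalAtSource.of_openCover (P := @Flat) (sigmaOpenCover A) fun j => by
    rw [hι]; exact he j
  refine fun x => Groth.L07.KoszulChart.isKoszulAt_descend f π (pullback.snd f π) (pullback.fst f π)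
    (IsPullback.of_hasPullback f π) (fun z => ?_) x
  obtain ⟨j, a, ha⟩ := (sigmaOpenCover A).exists_eq (pullback.snd f π z)
  refine isKoszulAt_of_target_piece _ ((sigmaOpenCover A).f j) ?_ z ⟨a, ha⟩
  rw [← pullbackLeftPullbackSndIso_hom_snd, lci_cancel_left_iso]
  exact tr _ _ (hι j).symm (h j)
where
  tr {X Y W : Scheme.{u}} {f : X ⟶ Y} (g g' : W ⟶ Y) (e : g = g')
      (h : AlgSp.lci (pullback.snd f g)) : AlgSp.lci (pullback.snd f g') := by
    subst e; exact h

variable {S : Scheme.{u}} {X Y X' Y' : Sp S}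

theorem locP_lci_of_isPullback_flat (hX : IsAlgSpace X) (hY : IsAlgSpace Y)
    (hY' : IsAlgSpace Y') {f : X ⟶ Y} {g : Y' ⟶ Y} {fst : X' ⟶ X} {f' : X' ⟶ Y'}
    (sq : IsPullback fst f' f g) (hg : LocP @Flat g) (hf : IsLCIMor f) : IsLCIMor f' := by
  obtain ⟨U, V, a, b, h, ha, has, hb, hbs, w⟩ := Groth.L23.exists_chart hX hY f
  obtain ⟨W, d, hd, hds⟩ := hY'.atlas
  obtain ⟨V₁, r, s, sqV⟩ := Groth.L23.exists_isPullback_of_representable hb.1 (d ≫ g)
  have hbd : RepWith @Etale ((yon S).map s ≫ d) :=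
    Groth.L23.repWith_comp (Groth.L23.repWith_of_isPullback sqV hb) hd
  have : Flat r.left := hg ((yon S).map s ≫ d) b r hbd hb (by rw [Category.assoc, sqV.w])
  have : Flat ((Over.forget S).map r) := ‹Flat r.left›
  have hh : AlgSp.lci (pullback.snd h r).left :=
    lci_of_isPullback_flat ((IsPullback.of_hasPullback h r).map (Over.forget S)) (hf a b h ha hb w)
  have sqA := IsPullback.of_hasPullback a fst
  have sqW : IsPullback ((yon S).map (pullback.fst h r)) ((yon S).map (pullback.snd h r) ≫ (yon S).map s)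
      (a ≫ f) (d ≫ g) := by
    have := ((IsPullback.of_hasPullback h r).map (yon S)).paste_vert sqV
    rwa [← w] at this
  have sqAY : IsPullback (pullback.fst a fst) (pullback.snd a fst ≫ f') (a ≫ f) g := sqA.paste_vert sq
  let k := sqAY.lift ((yon S).map (pullback.fst h r))
    (((yon S).map (pullback.snd h r) ≫ (yon S).map s) ≫ d)
    (by rw [Category.assoc]; exact sqW.w)
  have hk₁ : k ≫ pullback.fst a fst = (yon S).map (pullback.fst h r) := sqAY.lift_fst _ _ _
  have hk₂ : k ≫ pullback.snd a fst ≫ f' =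
      ((yon S).map (pullback.snd h r) ≫ (yon S).map s) ≫ d := sqAY.lift_snd _ _ _
  have sqK : IsPullback ((yon S).map (pullback.snd h r) ≫ (yon S).map s) k d
      (pullback.snd a fst ≫ f') :=
    IsPullback.of_bot (by simpa [hk₁] using sqW.flip) hk₂.symm sqAY.flip
  refine locP_lci_of_chart (a := k ≫ pullback.snd a fst) (h := pullback.snd h r)
    (b := (yon S).map s ≫ d)
    (Groth.L23.repWith_comp (Groth.L23.repWith_of_isPullback sqK hd) (Groth.L23.repWith_of_isPullback sqA ha))
    (Groth.L23.repWith_comp (Groth.L23.repWith_of_isPullback sqK hds) (Groth.L23.repWith_of_isPullback sqA has))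
    hbd ?_ hh
  simpa using hk₂

/-- An fpqc covering is refined over an affine scheme flat over the space by finitely many quasi-compact
schemes flat over the members. -/
theorem exists_flat_family {ι : Type u} {Y : Sp S} {Yi : ι → Sp S} {g : ∀ i, Yi i ⟶ Y} (hY : IsAlgSpace Y)
    (hYi : ∀ i, IsAlgSpace (Yi i)) (hcov : IsFpqcCover Yi g) {Z : Over S} [IsAffine Z.left]
    (k : (yon S).obj Z ⟶ Y) (hk : LocP @Flat k) :
    ∃ (J : Type u) (_ : Finite J) (A : J → Over S) (e : ∀ j, A j ⟶ Z) (i : J → ι)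
      (l : ∀ j, (yon S).obj (A j) ⟶ Yi (i j)),
      (∀ j, CompactSpace (A j).left) ∧ (∀ j, Flat (e j).left) ∧ (∀ j, LocP @Flat (l j)) ∧
      (∀ j, l j ≫ g (i j) = (yon S).map (e j) ≫ k) ∧ ∀ t : ↥Z.left, ∃ j, t ∈ Set.range (e j).left := by
  have hF := Groth.L23.etLocal_flat.{u}
  obtain ⟨J, hJ, A, e, i, l, hA, he, hl, hs⟩ := Groth.L23.exists_fpqc_affine_family hcov k
  have key : ∀ j, ∃ (B : Over S) (v : B ⟶ A j) (l' : (yon S).obj B ⟶ Yi (i j)),
      CompactSpace B.left ∧ Flat v.left ∧ LocP @Flat l' ∧ l' ≫ g (i j) = (yon S).map (v ≫ e j) ≫ k ∧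
        Function.Surjective v.left := fun j => by
    let m : (yon S).obj (A j) ⟶ Y := (yon S).map (e j) ≫ k
    have hm : LocP @Flat m := Groth.L23.locP_comp hF (IsAlgSpace.yon_obj _) (IsAlgSpace.yon_obj _) hY
      ((Groth.L24.LocQ.locP_map_iff hF _).2 (he j)) hk
    have sqP := IsPullback.of_hasPullback (g (i j)) m
    have hP : IsAlgSpace (pullback (g (i j)) m) :=
      Groth.L23.isAlgSpace_of_isPullback hY.diag (hYi _) (IsAlgSpace.yon_obj _) sqP
    obtain ⟨T, c, hc, hcs⟩ := hP.atlas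
    let σ : (yon S).obj (A j) ⟶ pullback (g (i j)) m := pullback.lift (l j) (𝟙 _) (by rw [hl j, Category.id_comp])
    obtain ⟨v₀, hv₀⟩ := (yon S).map_surjective (c ≫ pullback.snd (g (i j)) m)
    have := hA j
    obtain ⟨O, hO, -, hOs⟩ := Groth.L24.Alg.exists_compact_open_lift hc hcs σ Set.univ isOpen_univ
      (fun _ _ _ => Set.mem_univ _)
    let B : Over S := Over.mk (O.ι ≫ T.hom)
    let o : B ⟶ T := Over.homMk O.ι rfl
    have : IsOpenImmersion o.left := inferInstanceAs (IsOpenImmersion O.ι)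
    have hcF : LocP @Flat c :=
      Groth.L23.locP_mono (fun φ hφ => hF.etale φ hφ) (Groth.L23.locP_of_repWith Groth.L23.etLocal_etale hc)
    have hoF : LocP @Flat ((yon S).map o) :=
      (Groth.L24.LocQ.locP_map_iff hF _).2 (show Flat o.left from inferInstance)
    have hsnd : LocP @Flat (pullback.snd (g (i j)) m) :=
      Groth.L23.locP_of_isPullback hF (hYi _) hY (IsAlgSpace.yon_obj _) sqP (hcov.1 _)
    have hfst : LocP @Flat (pullback.fst (g (i j)) m) :=
      Groth.L23.locP_of_isPullback hF (IsAlgSpace.yon_obj _) hY (hYi _) sqP.flip hm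
    have hv₀F : Flat v₀.left := AlgSp.locP_yon_map
      (hv₀ ▸ Groth.L23.locP_comp hF (IsAlgSpace.yon_obj _) hP (IsAlgSpace.yon_obj _) hcF hsnd)
    refine ⟨B, o ≫ v₀, ((yon S).map o ≫ c) ≫ pullback.fst (g (i j)) m, isCompact_iff_compactSpace.mp hO,
      (show Flat (o.left ≫ v₀.left) from inferInstance),
      Groth.L23.locP_comp hF (IsAlgSpace.yon_obj _) hP (hYi _)
        (Groth.L23.locP_comp hF (IsAlgSpace.yon_obj _) (IsAlgSpace.yon_obj _) hP hoF hcF) hfst, ?_, fun a => ?_⟩
    · simp only [Category.assoc, pullback.condition, Functor.map_comp, hv₀, m]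
    · obtain ⟨t, ht, et⟩ := hOs a
      refine ⟨⟨t, ht⟩, ?_⟩
      apply (Points.schemeEquiv (A j)).injective
      show Points.ofScheme (A j) (v₀.left t) = Points.ofScheme (A j) a
      rw [← Groth.L23.ofPt_map, hv₀, ← Points.map_ofPt, et, Points.map_ofPt, pullback.lift_snd]
  choose B v l' hB hv hlF hl' hvs using key
  refine ⟨J, hJ, B, fun j => v j ≫ e j, i, l', hB, fun j => ?_, hlF, hl', fun t => ?_⟩
  · have := hv j
    have := he j
    exact (show Flat ((v j).left ≫ (e j).left) from inferInstance)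
  · obtain ⟨j, a, rfl⟩ := hs t
    obtain ⟨b, rfl⟩ := hvs j a
    exact ⟨j, b, rfl⟩

theorem isLocalOnBase_fpqc_lci : IsLocalOnBase (IsFpqcCover (S := S)) IsLCIMor := by
  intro ι Y Yi g hY hYi hcov X f hX Xi p q hXi sq
  refine ⟨fun hf i => locP_lci_of_isPullback_flat hX hY (hYi i) (sq i) (hcov.1 i) hf, fun h => ?_⟩
  obtain ⟨U, V, a, b, k, ha, has, hb, hbs, w⟩ := Groth.L23.exists_chart hX hY f
  refine locP_lci_of_chart ha has hb w fun x => ?_
  obtain ⟨n, v, hv⟩ := V.left.affineCover.exists_eq (k.left x)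
  let Z : Over S := Over.mk (V.left.affineCover.f n ≫ V.hom)
  let o : Z ⟶ V := Over.homMk (V.left.affineCover.f n) rfl
  have : IsAffine Z.left := inferInstanceAs (IsAffine (V.left.affineCover.X n))
  have : IsOpenImmersion o.left := inferInstanceAs (IsOpenImmersion (V.left.affineCover.f n))
  have hbF : LocP @Flat b := Groth.L23.locP_mono (fun φ hφ => Groth.L23.etLocal_flat.etale φ hφ)
    (Groth.L23.locP_of_repWith Groth.L23.etLocal_etale hb)
  obtain ⟨J, hJ, A, e, i, l, hA, he, hlF, hl, hs⟩ := exists_flat_family hY hYi hcov ((yon S).map o ≫ b)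
    (Groth.L23.locP_comp Groth.L23.etLocal_flat (IsAlgSpace.yon_obj _) (IsAlgSpace.yon_obj _) hY
      ((Groth.L24.LocQ.locP_map_iff Groth.L23.etLocal_flat _).2 (show Flat o.left from inferInstance)) hbF)
  refine isKoszulAt_of_target_piece k.left o.left ?_ x ⟨v, hv⟩
  refine lci_of_fpqc_family (pullback.snd k.left o.left) (fun j => (A j).left) (fun j => (e j).left) hA he hs
    fun j => ?_
  rw [← pullbackLeftPullbackSndIso_hom_snd, lci_cancel_left_iso]
  have sqQ : IsPullback (pullback.fst (p (i j)) (l j) ≫ q (i j)) (pullback.snd (p (i j)) (l j)) f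
      ((yon S).map (e j ≫ o) ≫ b) := by
    have := (IsPullback.of_hasPullback (p (i j)) (l j)).paste_horiz (sq (i j))
    rwa [hl, ← Functor.map_comp_assoc] at this
  have sqU := IsPullback.of_hasPullback k (e j ≫ o)
  have hLQ : IsLCIMor (pullback.snd (p (i j)) (l j)) :=
    locP_lci_of_isPullback_flat (hXi _) (hYi _) (IsAlgSpace.yon_obj _) (IsPullback.of_hasPullback _ _) (hlF j)
      (h (i j))
  have hh : AlgSp.lci (pullback.snd k (e j ≫ o)).left := hLQ _ (𝟙 _) _
    (Groth.L23.repWith_etale_lift ha hb w sqU sqQ)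
    (Groth.L23.repWith_of_isIso _) (by rw [Category.comp_id]; exact sqQ.lift_snd _ _ _)
  have sq' := sqU.map (Over.forget S)
  show AlgSp.lci (pullback.snd ((Over.forget S).map k) ((Over.forget S).map (e j ≫ o)))
  rw [← lci_cancel_left_iso sq'.isoPullback.hom]
  exact sq'.isoPullback_hom_snd.symm ▸ hh

end Groth.L09.LciMor
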