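import Groth.Prelude.Def_AlgSpMor6
import Groth.Agent.L07.KoszulSyntDescent
import Groth.Agent.L07.RegImmLocal
import Groth.Agent.L24.LocQ.Instances
import Groth.Agent.L24.St.LocPFppf

/-!
Local complete intersection morphisms of schemes are smooth local on the source and cancel smooth
morphisms; consequences for morphisms of algebraic spaces.
-/

set_option autoImplicit false
set_option backward.isDefEq.respectTransparency false
set_option backward.isDefEq.respectTransparency.types false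

universe u

open CategoryTheory CategoryTheory.Limits AlgebraicGeometry Opposite AlgSp

namespace Groth.L09.LciMor

open Groth.L24.LocQ

/-- Koszul at a point is local for open immersions on the source. -/
theorem isKoszulAt_of_openImmersion {X' X Y : Scheme.{u}} (j : X' ⟶ X) [IsOpenImmersion j] (g : X ⟶ Y) (u : X')
    (h : Synt.IsKoszulAt (j ≫ g) u) : Synt.IsKoszulAt g (j u) := by
  obtain ⟨U, P, i, π, hu, hft, ⟨hi, hreg⟩, hπ, e⟩ := h
  have := hi
  have := hft
  have hk : (j.isoImage U).inv ≫ U.ι ≫ j = (j ''ᵁ U).ι := j.isoImage_inv_ι U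
  refine ⟨j ''ᵁ U, P, (j.isoImage U).inv ≫ i, π, ⟨u, hu, rfl⟩, ?_, ⟨inferInstance, fun z =>
    (Groth.L07.RegImmAt.regularAt_restrict_iff (j.isoImage U).inv i z).mpr (hreg _)⟩, hπ, ?_⟩
  · rw [← hk, Category.assoc, Category.assoc]
    infer_instance
  · rw [← hk, Category.assoc, e]
    simp only [Category.assoc]

theorem lci_of_smooth {X Y : Scheme.{u}} (f : X ⟶ Y) [Smooth f] : AlgSp.lci f := fun x =>
  Groth.L07.SyntMor.isKoszulAt_of_isCIMorphism f (Groth.L07.SyntMor.isCIMorphism_of_smooth f) x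

theorem lci_of_etale {X Y : Scheme.{u}} (f : X ⟶ Y) (hf : Etale f) : AlgSp.lci f := by
  have : Smooth f := inferInstance
  exact lci_of_smooth f

theorem lci_comp {X Y Z : Scheme.{u}} {f : X ⟶ Y} {g : Y ⟶ Z} (hf : AlgSp.lci f) (hg : AlgSp.lci g) :
    AlgSp.lci (f ≫ g) := fun x => Groth.L07.KoszulChart.isKoszulAt_comp f g x (hf x) (hg _)

theorem lci_cancel {X Y Z : Scheme.{u}} (f : X ⟶ Y) (g : Y ⟶ Z) [Smooth g] (h : AlgSp.lci (f ≫ g)) :
    AlgSp.lci f := fun x => Groth.L07.RegImmAt.isKoszulAt_of_comp_smooth f g x (h x)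

theorem lci_desc {X' X Y : Scheme.{u}} (χ : X' ⟶ X) [Smooth χ] [Surjective χ] (g : X ⟶ Y)
    (h : AlgSp.lci (χ ≫ g)) : AlgSp.lci g := fun x =>
  Groth.L07.KoszulChart.isKoszulAt_of_syntomic_precomp χ (Groth.L07.SyntMor.isCIMorphism_of_smooth χ) g h x

theorem respectsIso_lci : (AlgSp.lci : MorphismProperty Scheme.{u}).RespectsIso :=
  MorphismProperty.RespectsIso.mk _ (fun e _ h => lci_comp (lci_of_smooth e.hom) h)
    (fun e _ h => lci_comp h (lci_of_smooth e.hom))

theorem isLocalAtSource_lci :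
    (AlgSp.lci : MorphismProperty Scheme.{u}).IsLocalAtSource (Scheme.precoverage @Smooth) :=
  { respectsIso_lci with
    comp := fun {X Y f R} hR {U} g hg hf => by
      have : Smooth g := hR.2 hg
      exact lci_comp (lci_of_smooth g) hf
    of_forall_comp := fun {X Y f R} hR h => by
      have hsurj : ∀ x : X, ∃ (U : Scheme.{u}) (g : U ⟶ X), R g ∧ x ∈ Set.range g := fun x => by
        obtain ⟨_, _, ⟨hg⟩, hx⟩ := hR.1 x
        exact ⟨_, _, hg, hx⟩
      choose U g hg hx using hsurj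
      have : ∀ x, Smooth (g x) := fun x => hR.2 (hg x)
      have : Smooth (Sigma.desc g) := IsZariskiLocalAtSource.sigmaDesc (P := @Smooth) this
      have : Surjective (Sigma.desc g) := ⟨fun x => by
        obtain ⟨y, hy⟩ := hx x
        exact ⟨Sigma.ι U x y, by rw [← Scheme.Hom.comp_apply, Sigma.ι_desc]; exact hy⟩⟩
      refine lci_desc (Sigma.desc g) f fun z => ?_
      obtain ⟨i, w, rfl⟩ := (sigmaOpenCover U).exists_eq z
      refine isKoszulAt_of_openImmersion (Sigma.ι U i) _ w ?_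
      rw [Sigma.ι_desc_assoc]
      exact h (hg i) w }

variable {S : Scheme.{u}} {X Y Z : Sp S}

theorem locP_lci_of_chart {f : X ⟶ Y} {U V : Over S} {a : (yon S).obj U ⟶ X}
    {b : (yon S).obj V ⟶ Y} {h : U ⟶ V} (ha : RepWith @Etale a) (has : RepWith @Surjective a)
    (hb : RepWith @Etale b) (w : a ≫ f = (yon S).map h ≫ b) (hh : AlgSp.lci h.left) : IsLCIMor f := by
  intro U' V' a' b' h' ha' hb' w'
  obtain ⟨W, p, q, sq⟩ := Groth.L23.exists_isPullback_of_representable ha.1 a'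
  obtain ⟨T, r, s, sqT⟩ := Groth.L23.exists_isPullback_of_representable hb.1 b'
  have : Etale q.left := Groth.L23.repWith_prop ha sq
  have : Surjective q.left := Groth.L23.repWith_prop has sq
  have : Etale p.left := Groth.L23.repWith_prop ha' sq.flip
  have : Etale r.left := Groth.L23.repWith_prop hb' sqT.flip
  have : Etale s.left := Groth.L23.repWith_prop hb sqT
  obtain ⟨l, hl₁, hl₂⟩ := Groth.L23.exists_lift_yon sqT (p ≫ h) (q ≫ h') (by
    simp only [Functor.map_comp, Category.assoc, ← w, ← w', reassoc_of% sq.w])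
  have h₁ : AlgSp.lci (l.left ≫ r.left) := by
    rw [← Over.comp_left, hl₁]
    exact lci_comp (lci_of_smooth p.left) hh
  refine lci_desc q.left h'.left ?_
  rw [← Over.comp_left, ← hl₂]
  exact lci_comp (lci_cancel l.left r.left h₁) (lci_of_smooth s.left)

theorem locP_lci_map {U V : Over S} (h : U ⟶ V) (hh : AlgSp.lci h.left) : IsLCIMor ((yon S).map h) :=
  locP_lci_of_chart (a := 𝟙 _) (b := 𝟙 _) (AlgSp.repWith_id _ U) (AlgSp.repWith_id _ U)
    (AlgSp.repWith_id _ V) (by simp) hh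

theorem locP_lci_of_smooth {f : X ⟶ Y} (h : LocP @Smooth f) : IsLCIMor f :=
  Groth.L23.locP_mono (fun φ hφ => by have := hφ; exact lci_of_smooth φ) h

theorem locP_lci_comp (hX : IsAlgSpace X) (hY : IsAlgSpace Y) (hZ : IsAlgSpace Z)
    {f : X ⟶ Y} {g : Y ⟶ Z} (hf : IsLCIMor f) (hg : IsLCIMor g) : IsLCIMor (f ≫ g) := by
  obtain ⟨W, c, hc, hcs⟩ := hZ.atlas
  obtain ⟨V, b, k, hb, w₂, hbs⟩ := Groth.L23.exists_chart_over hY hZ g hc
  obtain ⟨U, a, h, ha, w₁, has⟩ := Groth.L23.exists_chart_over hX hY f hb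
  refine locP_lci_of_chart ha (has (hbs hcs)) hc (h := h ≫ k) ?_
    (lci_comp (hf a b h ha hb w₁) (hg b c k hb hc w₂))
  rw [Functor.map_comp, Category.assoc, ← w₂, reassoc_of% w₁]

/-- Cancellation of a smooth morphism. -/
theorem locP_lci_cancel (hX : IsAlgSpace X) (hY : IsAlgSpace Y) (hZ : IsAlgSpace Z)
    {f : X ⟶ Y} {g : Y ⟶ Z} (hfg : IsLCIMor (f ≫ g)) (hg : LocP @Smooth g) : IsLCIMor f := by
  obtain ⟨W, c, hc, hcs⟩ := hZ.atlas
  obtain ⟨V, b, k, hb, w₂, hbs⟩ := Groth.L23.exists_chart_over hY hZ g hc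
  obtain ⟨U, a, h, ha, w₁, has⟩ := Groth.L23.exists_chart_over hX hY f hb
  have : Smooth k.left := hg b c k hb hc w₂
  refine locP_lci_of_chart ha (has (hbs hcs)) hb w₁ (lci_cancel h.left k.left ?_)
  exact hfg a c (h ≫ k) ha hc (by rw [Functor.map_comp, Category.assoc, ← w₂, reassoc_of% w₁])

theorem isSmoothLocalST_lci : IsSmoothLocalST (IsLCIMor : MorphismProperty (Sp S)) where
  precomp X Y Z hX hY hZ f g hf hg := locP_lci_comp hX hY hZ (locP_lci_of_smooth hf) hg
  baseChange X Y X' Y' hX hY hX' hY' f g f' g' sq hg hf := by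
    have hg' : LocP @Smooth g' := Groth.L23.locP_of_isPullback Groth.L23.etLocal_smooth hY' hY hX sq.flip hg
    refine locP_lci_cancel hX' hY' hY ?_ hg
    rw [← sq.w]
    exact locP_lci_comp hX' hX hY (locP_lci_of_smooth hg') hf
  locality X Y hX hY f := by
    refine ⟨fun hf x => ⟨X, Y, 𝟙 X, 𝟙 Y, f, x, hX, hY, locP_etale_smooth (Groth.L23.repWith_of_isIso _),
      locP_etale_smooth (Groth.L23.repWith_of_isIso _), by simp, Points.map_id x, hf⟩, fun H => ?_⟩
    obtain ⟨U₀, c, hc, hcs⟩ := hX.atlas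
    choose U V a b h v hU hV ha hb w hv hh using fun t : ↥U₀.left => H (Points.ofPt c t)
    refine (Groth.L24.Alg.isLocalOnSource_smooth isLocalAtSource_lci U a hX hU ⟨ha, fun x => ?_⟩ f hY).2
      fun t => ?_
    · obtain ⟨t, rfl⟩ := Groth.L23.surjective_ofPt hcs x
      exact ⟨t, v t, hv t⟩
    · rw [w t]
      exact locP_lci_comp (hU t) (hV t) hY (hh t) (locP_lci_of_smooth (hb t))

end Groth.L09.LciMor
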