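import Groth.Agent.L09.LciMor.Basic
import Groth.Agent.L23.OpenSub
import Groth.Agent.L14.KoszulFib.Scheme

/-!
The points at which a morphism of algebraic spaces is a local complete intersection.
-/

set_option autoImplicit false
set_option backward.isDefEq.respectTransparency false
set_option backward.isDefEq.respectTransparency.types false

universe u

open CategoryTheory CategoryTheory.Limits AlgebraicGeometry Opposite AlgSp Topology

namespace Groth.L09.LciMor

theorem isOpen_koszulLocus {X Y : Scheme.{u}} (f : X ⟶ Y) : IsOpen {x | Synt.IsKoszulAt f x} := by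
  refine isOpen_iff_forall_mem_open.2 fun x hx => ?_
  obtain ⟨U, P, i, π, hxU, h1, h2, h3, h4⟩ := hx
  exact ⟨U, fun z hz => ⟨U, P, i, π, hz, h1, h2, h3, h4⟩, U.2, hxU⟩

variable {S : Scheme.{u}} {X Y : Sp S}

/-- Koszul near a point, read on one chart. -/
theorem locPNear_lci_iff (hX : IsAlgSpace X) {f : X ⟶ Y} {U V : Over S} {a : (yon S).obj U ⟶ X}
    {b : (yon S).obj V ⟶ Y} {h : U ⟶ V} (ha : RepWith @Etale a) (hb : RepWith @Etale b)
    (w : a ≫ f = (yon S).map h ≫ b) (u : ↥U.left) :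
    LocPNear AlgSp.lci f (Points.ofPt a u) ↔ Synt.IsKoszulAt h.left u := by
  constructor
  · rintro ⟨W, j, hj, ⟨p, hp⟩, hW⟩
    have sq := hj.1.isPullback a
    obtain ⟨v, -, hv⟩ := Groth.L23.exists_point_of_isPullback sq (x := p) (u := u) hp
    have : IsOpenImmersion (hj.1.snd a).left := hj.2 a _ _ sq
    have h1 := hW (hj.1.fst a) b (hj.1.snd a ≫ h) (Groth.L23.repWith_of_isPullback sq.flip ha) hb
      (by rw [Functor.map_comp, Category.assoc, ← w, sq.w_assoc])
    rw [← hv]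
    exact isKoszulAt_of_openImmersion (hj.1.snd a).left h.left v (by simpa using h1 v)
  · intro hu
    let O : U.left.Opens := ⟨{z | Synt.IsKoszulAt h.left z}, isOpen_koszulLocus h.left⟩
    let W : TopologicalSpace.Opens (Points X) :=
      ⟨Points.ofPt a '' (O : Set ↥U.left), Groth.L23.isOpenMap_ofPt ha _ O.2⟩
    refine ⟨Groth.L23.openSub W, Groth.L23.openSubι W, Groth.L23.repWith_openSubι W,
      by rw [Groth.L23.range_openSubι]; exact ⟨u, hu, rfl⟩, ?_⟩
    have hWs := Groth.L23.isAlgSpace_openSub W hX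
    obtain ⟨fst, sq⟩ := Groth.L23.isPullback_openSub W a
    have hle : O ≤ Groth.L23.openPre W a := fun z hz => ⟨z, hz, rfl⟩
    let B : Over S := Over.mk (O.ι ≫ U.hom)
    let o : B ⟶ U := Over.homMk O.ι rfl
    let o' : B ⟶ Over.mk ((Groth.L23.openPre W a).ι ≫ U.hom) := Over.homMk (U.left.homOfLE (U := O) hle)
      (by show U.left.homOfLE (U := O) hle ≫ (Groth.L23.openPre W a).ι ≫ U.hom = _; rw [Scheme.homOfLE_ι_assoc]; rfl)
    have ho : o' ≫ (Over.homMk (Groth.L23.openPre W a).ι rfl : Over.mk ((Groth.L23.openPre W a).ι ≫ U.hom) ⟶ U) = o := by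
      ext1
      exact Scheme.homOfLE_ι (U := O) _ hle
    have : Etale o'.left := inferInstanceAs (Etale (U.left.homOfLE (U := O) hle))
    have hfac : ((yon S).map o' ≫ fst) ≫ Groth.L23.openSubι W = (yon S).map o ≫ a := by
      rw [Category.assoc, sq.w, ← Functor.map_comp_assoc, ho]
    refine locP_lci_of_chart (a := (yon S).map o' ≫ fst) (b := b) (h := o ≫ h)
      (Groth.L23.repWith_comp ((AlgSp.repWith_yon_map_iff @Etale o').2 ‹_›)
        (Groth.L23.repWith_of_isPullback sq.flip ha)) ?_ hb ?_ ?_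
    · refine Groth.L23.repWith_surjective_of_map (hWs.representable_from_yon _) fun p => ?_
      have hp : Points.map (Groth.L23.openSubι W) p ∈ (W : Set (Points X)) := by
        rw [← Groth.L23.range_openSubι]; exact ⟨p, rfl⟩
      obtain ⟨z, hz, ez⟩ := hp
      refine ⟨Points.ofScheme B ⟨z, hz⟩, ?_⟩
      rw [← Points.ofPt_eq_map_ofScheme]
      apply Groth.L23.injective_map_of_repWith (Groth.L23.repWith_mono
        (fun φ (_ : IsOpenImmersion φ) => (inferInstance : UniversallyInjective φ)) (Groth.L23.repWith_openSubι W))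
      rw [Points.map_ofPt, hfac, Groth.L23.ofPt_comp]
      exact ez
    · rw [Functor.map_comp, Category.assoc ((yon S).map o), ← w]
      simp only [← Category.assoc]
      rw [hfac]
    · intro z
      rw [Over.comp_left]
      exact Groth.L07.KoszulChart.isKoszulAt_comp o.left h.left z
        (lci_of_etale o.left (inferInstanceAs (Etale O.ι)) z) z.2

theorem locPNear_of_isLCIMor {f : X ⟶ Y} (hX : IsAlgSpace X) (hY : IsAlgSpace Y) (hf : IsLCIMor f)
    (x : Points X) : LocPNear AlgSp.lci f x := by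
  obtain ⟨U, V, a, b, h, ha, has, hb, -, w⟩ := Groth.L23.exists_chart hX hY f
  obtain ⟨u, rfl⟩ := Groth.L23.surjective_ofPt has x
  exact (locPNear_lci_iff hX ha hb w u).2 (hf a b h ha hb w u)

theorem isLCIMor_of_locPNear {f : X ⟶ Y} (hX : IsAlgSpace X) (H : ∀ x, LocPNear AlgSp.lci f x) : IsLCIMor f :=
  fun _ _ _ _ _ ha hb w u => (locPNear_lci_iff hX ha hb w u).1 (H _)

theorem isOpen_locPNear {f : X ⟶ Y} : IsOpen {x | LocPNear AlgSp.lci f x} := by
  refine isOpen_iff_forall_mem_open.2 fun x hx => ?_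
  obtain ⟨W, j, hj, hxW, hW⟩ := hx
  refine ⟨Set.range (Points.map j), fun z hz => ⟨W, j, hj, hz, hW⟩, ?_, hxW⟩
  exact (Groth.L23.isOpenMap_map_of_universallyOpen
    (Groth.L23.repWith_mono (fun φ (_ : IsOpenImmersion φ) => (inferInstance : UniversallyOpen φ)) hj)).isOpen_range

/-- A chart of a base change from a chart. -/
theorem exists_chart_baseChange {Z X' Zc Z' : Sp S} {F : X ⟶ Z} {g : Z' ⟶ Z} {U W W' U' : Over S}
    {a : (yon S).obj U ⟶ X} {c : (yon S).obj W ⟶ Z} {k : U ⟶ W} (w : a ≫ F = (yon S).map k ≫ c)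
    {z₁ : Zc ⟶ (yon S).obj W} {z₂ : Zc ⟶ Z'} (sqc : IsPullback z₁ z₂ c g)
    {e : (yon S).obj W' ⟶ Zc} {k₀ : W' ⟶ W} (hk₀ : (yon S).map k₀ = e ≫ z₁)
    (ha : RepWith @Etale a) (he : RepWith @Etale e) {pu : U' ⟶ U} {pt : U' ⟶ W'} (sq : IsPullback pu pt k k₀)
    {gX : X' ⟶ X} {p' : X' ⟶ Z'} (sqX : IsPullback gX p' F g) :
    ∃ a' : (yon S).obj U' ⟶ X', RepWith @Etale a' ∧
      (RepWith @Surjective a → RepWith @Surjective e → RepWith @Surjective a') ∧
      a' ≫ gX = (yon S).map pu ≫ a ∧ a' ≫ p' = (yon S).map pt ≫ e ≫ z₂ := by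
  have sqA := IsPullback.of_hasPullback a gX
  have sqT := sqA.paste_vert sqX
  let tZ := sqc.lift (pullback.fst a gX ≫ (yon S).map k) (pullback.snd a gX ≫ p')
    (by rw [Category.assoc, ← w]; exact sqT.w)
  have htZ₁ : tZ ≫ z₁ = pullback.fst a gX ≫ (yon S).map k := sqc.lift_fst _ _ _
  have htZ₂ : tZ ≫ z₂ = pullback.snd a gX ≫ p' := sqc.lift_snd _ _ _
  have sqT0 : IsPullback (pullback.fst a gX) tZ ((yon S).map k) z₁ :=
    IsPullback.of_bot (by simpa [htZ₂, ← w] using sqT) htZ₁.symm sqc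
  have sqU := (sq.map (yon S))
  let l := sqT0.lift ((yon S).map pu) ((yon S).map pt ≫ e)
    (by rw [Category.assoc, ← hk₀, ← Functor.map_comp, ← Functor.map_comp, sq.w])
  have hl₁ : l ≫ pullback.fst a gX = (yon S).map pu := sqT0.lift_fst _ _ _
  have hl₂ : l ≫ tZ = (yon S).map pt ≫ e := sqT0.lift_snd _ _ _
  have sqL : IsPullback l ((yon S).map pt) tZ e :=
    IsPullback.of_right (by simpa [hl₁, ← hk₀] using sqU) hl₂ sqT0
  refine ⟨l ≫ pullback.snd a gX,
    Groth.L23.repWith_comp (Groth.L23.repWith_of_isPullback sqL.flip he) (Groth.L23.repWith_of_isPullback sqA ha),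
    fun has hes => Groth.L23.repWith_comp (Groth.L23.repWith_of_isPullback sqL.flip hes)
      (Groth.L23.repWith_of_isPullback sqA has), ?_, ?_⟩
  · rw [Category.assoc, ← sqA.w, reassoc_of% hl₁]
  · rw [Category.assoc, ← htZ₂, reassoc_of% hl₂]

theorem locPNear_baseChange_iff {Z X' Y' Z' : Sp S} (hX : IsAlgSpace X) (hY : IsAlgSpace Y) (hZ : IsAlgSpace Z)
    (hZ' : IsAlgSpace Z') (hX' : IsAlgSpace X') {f : X ⟶ Y} {q : Y ⟶ Z} {g : Z' ⟶ Z}
    (hp1 : LocP @Flat (f ≫ q)) (hp2 : LocP @LocallyOfFinitePresentation (f ≫ q))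
    (hq1 : LocP @Flat q) (hq2 : LocP @LocallyOfFinitePresentation q)
    {gY : Y' ⟶ Y} {q' : Y' ⟶ Z'} (hsY : IsPullback gY q' q g)
    {gX : X' ⟶ X} {f' : X' ⟶ Y'} (hsX : IsPullback gX f' f gY) (x' : Points X') :
    LocPNear AlgSp.lci f' x' ↔ LocPNear AlgSp.lci f (Points.map gX x') := by
  obtain ⟨W, c, hc, hcs⟩ := hZ.atlas
  obtain ⟨V, b, k, hb, w₂, hbs⟩ := Groth.L23.exists_chart_over hY hZ q hc
  obtain ⟨U, a, h, ha, w₁, has⟩ := Groth.L23.exists_chart_over hX hY f hb
  have sqc := IsPullback.of_hasPullback c g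
  have hZc : IsAlgSpace (pullback c g) :=
    Groth.L23.isAlgSpace_of_isPullback hZ.diag (IsAlgSpace.yon_obj W) hZ' sqc
  obtain ⟨W', e, he, hes⟩ := hZc.atlas
  obtain ⟨k₀, hk₀⟩ := (yon S).map_surjective (e ≫ pullback.fst c g)
  have w₁₂ : a ≫ f ≫ q = (yon S).map (h ≫ k) ≫ c := by
    rw [Functor.map_comp, Category.assoc, ← w₂, reassoc_of% w₁]
  have sV := IsPullback.of_hasPullback k k₀
  have sU := IsPullback.of_hasPullback (h ≫ k) k₀
  obtain ⟨b', hb', -, hb₁, hb₂⟩ := exists_chart_baseChange w₂ sqc hk₀ hb he sV hsY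
  obtain ⟨a', ha', has', ha₁, ha₂⟩ := exists_chart_baseChange w₁₂ sqc hk₀ ha he sU (hsX.paste_vert hsY)
  let h' := pullback.lift (f := k) (g := k₀) (pullback.fst (h ≫ k) k₀ ≫ h) (pullback.snd (h ≫ k) k₀)
    (by rw [Category.assoc]; exact sU.w)
  have hh₁ : h' ≫ pullback.fst k k₀ = pullback.fst (h ≫ k) k₀ ≫ h := pullback.lift_fst _ _ _
  have hh₂ : h' ≫ pullback.snd k k₀ = pullback.snd (h ≫ k) k₀ := pullback.lift_snd _ _ _
  have w' : a' ≫ f' = (yon S).map h' ≫ b' := by
    refine hsY.hom_ext ?_ ?_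
    · rw [Category.assoc, ← hsX.w, reassoc_of% ha₁, Category.assoc, hb₁, ← Functor.map_comp_assoc, hh₁,
        Functor.map_comp, Category.assoc, w₁]
    · rw [Category.assoc, ha₂, Category.assoc, hb₂, ← Functor.map_comp_assoc, hh₂]
  obtain ⟨u', rfl⟩ := Groth.L23.surjective_ofPt (has' (has (hbs hcs)) hes) x'
  rw [locPNear_lci_iff hX' ha' hb' w' u', Points.map_ofPt, ha₁, Groth.L23.ofPt_comp,
    locPNear_lci_iff hX ha hb w₁]
  have : Flat (h.left ≫ k.left) := hp1 a c (h ≫ k) ha hc w₁₂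
  have : LocallyOfFinitePresentation (h.left ≫ k.left) := hp2 a c (h ≫ k) ha hc w₁₂
  have : Flat k.left := hq1 b c k hb hc w₂
  have : LocallyOfFinitePresentation k.left := hq2 b c k hb hc w₂
  refine Groth.L14.KoszulFib.isKoszulAt_iff_baseChange h.left k.left k₀.left (pullback.fst k k₀).left
    (pullback.snd k k₀).left (sV.map (Over.forget S)) (pullback.fst (h ≫ k) k₀).left h'.left ?_ ?_ u'
  · have := sU.map (Over.forget S)
    rw [← hh₂] at this
    exact this
  · exact (congrArg Over.Hom.left hh₁).symm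

end Groth.L09.LciMor
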